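import Cfsg.Agent.H83.PiControl.Cover
import Cfsg.Agent.Fusion.Alperin
import Mathlib.GroupTheory.Nilpotent
import Mathlib.GroupTheory.GroupAction.ConjAct

/-!
# Fusion of π-elements in π-homogeneous groups with dominating π-subgroup
-/

set_option autoImplicit false

open scoped Pointwise

namespace Cfsg.Agent.H83.PiControl

universe u

/-- `H` is a π-subgroup receiving all π-subgroups and the normalisers act as π-groups. -/
structure Good (π : Set ℕ) {G : Type u} [Group G] (H : Subgroup G) : Prop where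
  pi : Cfsg.IsPiSubgroup π H
  sub : ∀ B : Subgroup G, Cfsg.IsPiSubgroup π B → ∃ g : G, ∀ b ∈ B, g * b * g⁻¹ ∈ H
  homog : ∀ B : Subgroup G, Cfsg.IsPiSubgroup π B → ∀ r : ℕ, r.Prime →
    r ∣ (Subgroup.centralizer (B : Set G)).relIndex (Subgroup.normalizer (B : Set G)) → r ∈ π

/-- `g` is induced on `U` by an element of `H`. -/
def Ind {G : Type u} [Group G] (H U : Subgroup G) (g : G) : Prop :=
  ∃ h ∈ H, ∀ u ∈ U, g * u * g⁻¹ = h * u * h⁻¹

/-- A `p`-subgroup of `N` is no larger than a Sylow subgroup of `N`. -/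
theorem card_le_sylow {G : Type u} [Group G] [Finite G] {p : ℕ} [Fact p.Prime] {Q N : Subgroup G}
    (hQ : IsPGroup p Q) (hQN : Q ≤ N) (R : Sylow p N) : Nat.card Q ≤ Nat.card (R : Subgroup N) := by
  obtain ⟨T, hT⟩ := (hQ.comap_of_injective N.subtype N.subtype_injective).exists_le_sylow
  have e : Nat.card ((T : Subgroup N).map N.subtype) = Nat.card (T : Subgroup N) :=
    Subgroup.card_map_of_injective N.subtype_injective
  rw [R.card_eq_multiplicity, ← T.card_eq_multiplicity, ← e]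
  refine Subgroup.card_le_of_le fun q hq => ?_
  exact ⟨⟨q, hQN hq⟩, hT hq, rfl⟩

section

variable {π : Set ℕ} {G : Type u} [Group G] [Finite G] {H : Subgroup G} (S : Good π H)
  {p : ℕ} [Fact p.Prime] (hp : p ∈ π) {P : Sylow p G} (hPH : (P : Subgroup G) ≤ H)

include hPH in
/-- Inside `H` a `p`-subgroup moves into `P`. -/
theorem exists_mem_conj_le {U : Subgroup G} (hU : IsPGroup p U) (hUH : U ≤ H) :
    ∃ h ∈ H, ∀ u ∈ U, h * u * h⁻¹ ∈ (P : Subgroup G) := by
  have hU' : IsPGroup p (U.subgroupOf H) := hU.comap_of_injective _ H.subtype_injective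
  obtain ⟨T, hT⟩ := hU'.exists_le_sylow
  obtain ⟨h, hh⟩ := MulAction.exists_smul_eq H T (P.subtype hPH)
  refine ⟨h, h.2, fun u hu => ?_⟩
  have h1 : h * ⟨u, hUH hu⟩ * h⁻¹ ∈ ((h • T : Sylow p H) : Subgroup H) := by
    show h * ⟨u, hUH hu⟩ * h⁻¹ ∈ MulAut.conj h • (T : Subgroup H)
    rw [Subgroup.mem_pointwise_smul_iff_inv_smul_mem]
    simpa [mul_assoc] using hT (show (⟨u, hUH hu⟩ : H) ∈ U.subgroupOf H from hu)
  rw [hh] at h1
  exact h1

include S hp hPH in
/-- `H` induces every map between `p`-subgroups of `P` given by conjugation into `H`. -/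
theorem ind_of_le : ∀ (U : Subgroup G), U ≤ P → ∀ g : G, (∀ u ∈ U, g * u * g⁻¹ ∈ H) → Ind H U g := by
  intro U
  induction hd : Nat.card (P : Subgroup G) - Nat.card U using Nat.strong_induction_on generalizing U with
  | _ n IH =>
  intro hUP g hgU
  have IH' : ∀ U' : Subgroup G, U' ≤ P → Nat.card U < Nat.card U' → ∀ g : G,
      (∀ u ∈ U', g * u * g⁻¹ ∈ H) → Ind H U' g := by
    intro U' hU' hlt g' hg'
    have := Subgroup.card_le_of_le hU'
    exact IH _ (by omega) U' rfl hU' g' hg'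
  have hUp : IsPGroup p U := P.2.to_le hUP
  set N := Subgroup.normalizer (U : Set G) with hN
  -- a Sylow subgroup of the normaliser containing `U`, moved into `P`
  obtain ⟨R, hR⟩ := (hUp.comap_of_injective N.subtype N.subtype_injective).exists_le_sylow
  set R0 : Subgroup G := (R : Subgroup N).map N.subtype with hR0
  have hUN : U ≤ N := Subgroup.le_normalizer
  have hUR : U ≤ R0 := fun u hu => ⟨⟨u, hUN hu⟩, hR hu, rfl⟩
  have hR0p : IsPGroup p R0 := R.2.map _
  have hfull : Nat.card U = Nat.card (P : Subgroup G) → U = (P : Subgroup G) ∧ R0 = (P : Subgroup G) := by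
    intro e
    have e1 : U = (P : Subgroup G) := Subgroup.eq_of_le_of_card_ge hUP e.ge
    exact ⟨e1, P.3 hR0p (e1 ▸ hUR)⟩
  obtain ⟨s, hs, hs1⟩ : ∃ s : G, (∀ r ∈ R0, s * r * s⁻¹ ∈ (P : Subgroup G)) ∧
      (Nat.card U = Nat.card (P : Subgroup G) → s = 1) := by
    by_cases e : Nat.card U = Nat.card (P : Subgroup G)
    · refine ⟨1, fun r hr => ?_, fun _ => rfl⟩
      rw [(hfull e).2] at hr
      simpa using hr
    · obtain ⟨T, hT⟩ := hR0p.exists_le_sylow
      obtain ⟨s, hs⟩ := MulAction.exists_smul_eq G T P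
      refine ⟨s, fun r hr => ?_, fun h => absurd h e⟩
      rw [← hs]
      show s * r * s⁻¹ ∈ MulAut.conj s • (T : Subgroup G)
      rw [Subgroup.mem_pointwise_smul_iff_inv_smul_mem]
      simpa [mul_assoc] using hT hr
  -- the automiser of `U`, transported by `s`
  have haut : ∀ a ∈ N, ∃ h ∈ H, ∀ u ∈ U, s * (a * u * a⁻¹) * s⁻¹ = h * (s * u * s⁻¹) * h⁻¹ := by
    set C := (Subgroup.centralizer (U : Set G)).subgroupOf N with hC
    haveI : C.Normal := by
      show ((Subgroup.centralizer (U : Set G)).subgroupOf (Subgroup.normalizer (U : Set G))).Normal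
      rw [← Subgroup.normalizerMonoidHom_ker]; infer_instance
    have hUπ : Cfsg.IsPiSubgroup π U := piSub_of_isPGroup Fact.out hp hUp
    obtain ⟨L, hLπ, hRL, hdec⟩ := exists_cover hp C (fun r hr hd => S.homog U hUπ r hr hd) R
    obtain ⟨m, hm⟩ := S.sub (L.map N.subtype) (piSub_map _ hLπ)
    have hmR : ∀ r ∈ R0, m * r * m⁻¹ ∈ H := by
      rintro _ ⟨r, hr, rfl⟩
      exact hm _ ⟨r, hRL hr, rfl⟩
    obtain ⟨k, hkU, hkL⟩ : ∃ k : G, (∀ u ∈ U, k * u * k⁻¹ = s * u * s⁻¹) ∧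
        ∀ l ∈ L, k * (l : G) * k⁻¹ ∈ H := by
      by_cases e : Nat.card U = Nat.card (P : Subgroup G)
      · obtain ⟨h1, h1H, hh1⟩ := exists_mem_conj_le hPH (U := U.map (MulAut.conj m).toMonoidHom)
          (hUp.map _) (by rintro _ ⟨u, hu, rfl⟩; exact hmR u (hUR hu))
        have hm' : h1 * m ∈ N := by
          refine Subgroup.mem_normalizer_fintype fun u hu => ?_
          show _ ∈ U
          rw [(hfull e).1]
          simpa [mul_assoc] using hh1 _ ⟨u, hu, rfl⟩
        obtain ⟨c, hc, l0, hl0, hcl⟩ := hdec ⟨_, hm'⟩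
        have hc' : (c : G) = h1 * m * (l0 : G)⁻¹ := by
          rw [show h1 * m = (c : G) * l0 from congrArg Subtype.val hcl, mul_inv_cancel_right]
        refine ⟨c, fun u hu => ?_, fun l hl => ?_⟩
        · rw [hs1 e, ← Subgroup.mem_centralizer_iff.1 (Subgroup.mem_subgroupOf.1 hc) u hu]
          group
        · have hx : m * ((l0 : G)⁻¹ * l * l0) * m⁻¹ ∈ H :=
            hm _ ⟨l0⁻¹ * l * l0, L.mul_mem (L.mul_mem (L.inv_mem hl0) hl) hl0, rfl⟩
          have := H.mul_mem (H.mul_mem h1H hx) (H.inv_mem h1H)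
          rw [hc']
          simpa [mul_assoc] using this
      · have hlt : Nat.card U < Nat.card (R0.map (MulAut.conj s).toMonoidHom) := by
          rw [Subgroup.card_map_of_injective (MulAut.conj s).injective, hR0,
            Subgroup.card_map_of_injective N.subtype_injective]
          have hlt' := Fusion.ofSubgroupInfLt (p := p) (P : Subgroup G) P.2
            (lt_of_le_of_ne hUP fun h' => e (by rw [h']))
          refine lt_of_lt_of_le (lt_of_le_of_ne (Subgroup.card_le_of_le hlt'.le) fun h =>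
            hlt'.ne (Subgroup.eq_of_le_of_card_ge hlt'.le h.ge)) ?_
          exact card_le_sylow (P.2.to_le inf_le_left) inf_le_right R
        have hle : R0.map (MulAut.conj s).toMonoidHom ≤ (P : Subgroup G) := by
          rintro _ ⟨r, hr, rfl⟩; exact hs r hr
        obtain ⟨h, hH, hh⟩ := IH' _ hle hlt (m * s⁻¹) (by
          rintro _ ⟨r, hr, rfl⟩
          simpa [mul_assoc] using hmR r hr)
        refine ⟨h⁻¹ * m, fun u hu => ?_, fun l hl => ?_⟩
        · have := hh (s * u * s⁻¹) ⟨u, hUR hu, rfl⟩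
          calc h⁻¹ * m * u * (h⁻¹ * m)⁻¹
              = h⁻¹ * (m * s⁻¹ * (s * u * s⁻¹) * (m * s⁻¹)⁻¹) * h := by group
            _ = s * u * s⁻¹ := by rw [this]; group
        · have := H.mul_mem (H.mul_mem (H.inv_mem hH) (hm _ ⟨l, hl, rfl⟩)) hH
          simpa [mul_assoc] using this
    intro a ha
    obtain ⟨c, hc, l, hl, hcl⟩ := hdec ⟨a, ha⟩
    have hal : a = (c : G) * l := congrArg Subtype.val hcl
    refine ⟨k * l * k⁻¹, hkL l hl, fun u hu => ?_⟩
    have hlu : (l : G) * u * (l : G)⁻¹ ∈ U := (Subgroup.mem_normalizer_iff.1 l.2 u).1 hu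
    have hcu : (c : G) * (l * u * (l : G)⁻¹) * (c : G)⁻¹ = l * u * (l : G)⁻¹ := by
      rw [← Subgroup.mem_centralizer_iff.1 (Subgroup.mem_subgroupOf.1 hc) _ hlu]
      group
    calc s * (a * u * a⁻¹) * s⁻¹ = s * ((c : G) * (l * u * (l : G)⁻¹) * (c : G)⁻¹) * s⁻¹ := by
          rw [hal]; group
      _ = k * (l * u * (l : G)⁻¹) * k⁻¹ := by rw [hcu, hkU _ hlu]
      _ = k * l * k⁻¹ * (k * u * k⁻¹) * (k * l * k⁻¹)⁻¹ := by group
      _ = _ := by rw [hkU u hu]
  -- any subgroup of `P` conjugate to `U` is carried to `sUs⁻¹` by `H`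
  have hfwd : ∀ (U' : Subgroup G), U' ≤ P → ∀ g0 : G, U'.map (MulAut.conj g0).toMonoidHom = U →
      ∃ h ∈ H, ∀ u ∈ U', s * (g0 * u * g0⁻¹) * s⁻¹ = h * u * h⁻¹ := by
    intro U' hU'P g0 hg0
    have hmem : ∀ u ∈ U', g0 * u * g0⁻¹ ∈ U := fun u hu => hg0 ▸ ⟨u, hu, rfl⟩
    have hcard : Nat.card U' = Nat.card U := by
      rw [← hg0, Subgroup.card_map_of_injective (MulAut.conj g0).injective]
    by_cases e : Nat.card U = Nat.card (P : Subgroup G)
    · have hU'eq : U' = U := by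
        rw [(hfull e).1]; exact Subgroup.eq_of_le_of_card_ge hU'P (hcard.trans e).ge
      subst hU'eq
      have hgN : g0 ∈ N := Subgroup.mem_normalizer_fintype fun u hu => hmem u hu
      obtain ⟨h, hH, hh⟩ := haut g0 hgN
      exact ⟨h, hH, fun u hu => by simpa [hs1 e] using hh u hu⟩
    · set Q' := (P : Subgroup G) ⊓ Subgroup.normalizer (U' : Set G) with hQ'
      have hQlt : Nat.card U < Nat.card Q' := by
        have hlt := Fusion.ofSubgroupInfLt (p := p) (P : Subgroup G) P.2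
          (lt_of_le_of_ne hU'P fun h' => e (by rw [← hcard, h']))
        rw [← hcard]
        exact lt_of_le_of_ne (Subgroup.card_le_of_le hlt.le) fun h =>
          hlt.ne (Subgroup.eq_of_le_of_card_ge hlt.le h.ge)
      set Q'' := Q'.map (MulAut.conj g0).toMonoidHom with hQ''
      have hQN : Q'' ≤ N := by
        rintro _ ⟨q, hq, rfl⟩
        refine Subgroup.mem_normalizer_fintype fun v hv => ?_
        have hv' : v ∈ U'.map (MulAut.conj g0).toMonoidHom := by rw [hg0]; exact hv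
        obtain ⟨u, hu, rfl⟩ := hv'
        show _ ∈ U
        rw [← hg0]
        exact ⟨q * u * q⁻¹, (Subgroup.mem_normalizer_iff.1 hq.2 u).1 hu, by simp [mul_assoc]⟩
      obtain ⟨T, hT⟩ := (((P.2.to_le inf_le_left : IsPGroup p Q').map
        (MulAut.conj g0).toMonoidHom).comap_of_injective N.subtype N.subtype_injective).exists_le_sylow
      obtain ⟨a, ha⟩ := MulAction.exists_smul_eq N T R
      have haQ : ∀ q ∈ Q', (a : G) * (g0 * q * g0⁻¹) * (a : G)⁻¹ ∈ R0 := by
        intro q hq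
        have hqN : g0 * q * g0⁻¹ ∈ N := hQN ⟨q, hq, rfl⟩
        refine ⟨a * ⟨_, hqN⟩ * a⁻¹, ?_, rfl⟩
        rw [← ha]
        show _ ∈ MulAut.conj a • (T : Subgroup N)
        rw [Subgroup.mem_pointwise_smul_iff_inv_smul_mem]
        simpa [mul_assoc] using hT (show (⟨_, hqN⟩ : N) ∈ Q''.subgroupOf N from ⟨q, hq, rfl⟩)
      obtain ⟨h1, h1H, hh1⟩ := IH' Q' inf_le_left hQlt (s * a * g0) (fun q hq => by
        refine hPH ?_
        convert hs _ (haQ q hq) using 1
        group)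
      obtain ⟨h2, h2H, hh2⟩ := haut (a : G)⁻¹ (N.inv_mem a.2)
      refine ⟨h2 * h1, H.mul_mem h2H h1H, fun u hu => ?_⟩
      have hv : (a : G) * (g0 * u * g0⁻¹) * (a : G)⁻¹ ∈ U :=
        (Subgroup.mem_normalizer_iff.1 a.2 _).1 (hmem u hu)
      have hu' : u ∈ Q' := ⟨hU'P hu, Subgroup.le_normalizer hu⟩
      calc s * (g0 * u * g0⁻¹) * s⁻¹
          = s * ((a : G)⁻¹ * ((a : G) * (g0 * u * g0⁻¹) * (a : G)⁻¹) * (a : G)⁻¹⁻¹) * s⁻¹ := by group
        _ = h2 * (s * ((a : G) * (g0 * u * g0⁻¹) * (a : G)⁻¹) * s⁻¹) * h2⁻¹ := hh2 _ hv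
        _ = h2 * ((s * a * g0) * u * (s * a * g0)⁻¹) * h2⁻¹ := by group
        _ = _ := by rw [hh1 u hu']; group
  obtain ⟨h0, h0H, hh0⟩ := exists_mem_conj_le hPH (U := U.map (MulAut.conj g).toMonoidHom)
    (hUp.map _) (by rintro _ ⟨u, hu, rfl⟩; exact hgU u hu)
  set U2 := U.map (MulAut.conj (h0 * g)).toMonoidHom with hU2
  have hU2P : U2 ≤ (P : Subgroup G) := by
    rintro _ ⟨u, hu, rfl⟩
    have := hh0 _ ⟨u, hu, rfl⟩
    simpa [mul_assoc] using this
  obtain ⟨h, hH, hh⟩ := hfwd U hUP 1 (by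
    ext x; simp)
  obtain ⟨h', h'H, hh'⟩ := hfwd U2 hU2P (h0 * g)⁻¹ (by
    rw [hU2, Subgroup.map_map]
    ext x; simp [mul_assoc])
  refine ⟨h0⁻¹ * h'⁻¹ * h, H.mul_mem (H.mul_mem (H.inv_mem h0H) (H.inv_mem h'H)) hH, fun u hu => ?_⟩
  have e1 := hh u hu
  have e2 := hh' (h0 * g * u * (h0 * g)⁻¹) ⟨u, hu, rfl⟩
  have e3 : h * u * h⁻¹ = h' * (h0 * g * u * (h0 * g)⁻¹) * h'⁻¹ := by
    rw [← e1, ← e2]; group
  calc g * u * g⁻¹ = h0⁻¹ * h'⁻¹ * (h' * (h0 * g * u * (h0 * g)⁻¹) * h'⁻¹) * (h0⁻¹ * h'⁻¹)⁻¹ := by group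
    _ = _ := by rw [← e3]; group

end

end Cfsg.Agent.H83.PiControl
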