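import Cfsg.Prelude.Def_HallClasses
import Cfsg.Prelude.Def_OddOrderLocal
import Mathlib.GroupTheory.SchurZassenhaus
import Mathlib.GroupTheory.Sylow
import Mathlib.GroupTheory.Perm.Cycle.Type

/-!
# π-supplements to a normal subgroup with π-quotient
-/

set_option autoImplicit false

open scoped Pointwise

namespace Cfsg.Agent.H83.PiControl

universe u

variable {G : Type u} [Group G] [Finite G]

theorem piSub_mono {π : Set ℕ} {K L : Subgroup G} (h : K ≤ L) (hL : Cfsg.IsPiSubgroup π L) :
    Cfsg.IsPiSubgroup π K :=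
  fun r hr hd => hL r hr (hd.trans (Subgroup.card_dvd_of_le h))

theorem piSub_map {π : Set ℕ} {M : Type u} [Group M] {K : Subgroup M} (f : M →* G)
    (hK : Cfsg.IsPiSubgroup π K) : Cfsg.IsPiSubgroup π (K.map f) :=
  fun r hr hd => hK r hr (hd.trans (K.card_map_dvd f))

theorem piSub_of_isPGroup {π : Set ℕ} {p : ℕ} (hp : p.Prime) (hpπ : p ∈ π) {K : Subgroup G}
    (hK : IsPGroup p K) : Cfsg.IsPiSubgroup π K := by
  intro r hr hd
  haveI := Fact.mk hp
  obtain ⟨n, hn⟩ := IsPGroup.iff_card.1 hK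
  rw [hn] at hd
  rwa [(Nat.prime_dvd_prime_iff_eq hr hp).1 (hr.dvd_of_dvd_pow hd)]

theorem piSub_sup_of_normal {π : Set ℕ} {K R : Subgroup G} (hn : K ≤ Subgroup.normalizer (R : Set G))
    (hK : Cfsg.IsPiSubgroup π K) (hR : Cfsg.IsPiSubgroup π R) : Cfsg.IsPiSubgroup π (K ⊔ R) := by
  intro r hr hd
  haveI := Fact.mk hr
  obtain ⟨⟨x, hxm⟩, hx⟩ := exists_prime_orderOf_dvd_card' r hd
  rw [Subgroup.orderOf_mk] at hx
  have hle : K ⊔ R ≤ Subgroup.normalizer (R : Set G) := sup_le hn Subgroup.le_normalizer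
  have hxN : x ∈ Subgroup.normalizer (R : Set G) := hle hxm
  have hsup : (⟨x, hxN⟩ : Subgroup.normalizer (R : Set G)) ∈
      K.subgroupOf (Subgroup.normalizer (R : Set G)) ⊔ R.subgroupOf (Subgroup.normalizer (R : Set G)) := by
    rw [← Subgroup.subgroupOf_sup hn Subgroup.le_normalizer]
    exact hxm
  rw [Subgroup.mem_sup_of_normal_right] at hsup
  obtain ⟨k, hk, ρ, hρ, he⟩ := hsup
  have h1 : ((k * ρ) ^ Nat.card K : Subgroup.normalizer (R : Set G)) ∈
      R.subgroupOf (Subgroup.normalizer (R : Set G)) := by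
    rw [← QuotientGroup.eq_one_iff, QuotientGroup.mk_pow, QuotientGroup.mk_mul,
      (QuotientGroup.eq_one_iff ρ).2 hρ, mul_one, ← QuotientGroup.mk_pow]
    have h0 : k ^ Nat.card K = 1 := Subtype.ext (by
      have := orderOf_dvd_iff_pow_eq_one.1 (Subgroup.orderOf_dvd_natCard K hk)
      simpa using this)
    rw [h0, QuotientGroup.mk_one]
  rw [he] at h1
  have h2 : x ^ Nat.card K ∈ R := h1
  have h3 : x ^ (Nat.card K * Nat.card R) = 1 := by
    rw [pow_mul]
    exact orderOf_dvd_iff_pow_eq_one.1 (Subgroup.orderOf_dvd_natCard R h2)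
  rcases hr.dvd_mul.1 (hx ▸ orderOf_dvd_of_pow_eq_one h3) with h | h
  · exact hK r hr h
  · exact hR r hr h

/-- A supplement of `C` that is minimal among subgroups of `N1` is a π-group. -/
theorem piSub_of_minimal {π : Set ℕ} (C : Subgroup G) [C.Normal]
    (hq : ∀ r : ℕ, r.Prime → r ∣ C.index → r ∈ π) {L : Subgroup G} (hL : C ⊔ L = ⊤)
    (hmin : ∀ K ≤ L, C ⊔ K = ⊤ → K = L) : Cfsg.IsPiSubgroup π L := by
  intro r hr hd
  by_contra hrπ
  haveI := Fact.mk hr
  set D := C.subgroupOf L with hD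
  have hDi : D.index = C.index := by
    show C.relIndex L = C.index
    have := Subgroup.relIndex_sup_left (K := C) (H := L)
    rw [hL, Subgroup.relIndex_top_right] at this
    exact this.symm
  have hrD : ¬ r ∣ D.index := fun h => hrπ (hq r hr (hDi ▸ h))
  let T : Sylow r D := default
  have hfr := Sylow.normalizer_sup_eq_top T
  set T' : Subgroup L := (T : Subgroup D).map D.subtype with hT'
  have hnorm : Subgroup.normalizer (T' : Set L) = ⊤ := by
    set N' := Subgroup.normalizer (T' : Set L)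
    have hsub : N'.map L.subtype = L := by
      refine hmin _ (Subgroup.map_subtype_le _) (top_unique ?_)
      rw [← hL]
      refine sup_le le_sup_left fun x hx => ?_
      have hx' : (⟨x, hx⟩ : L) ∈ N' ⊔ D := hfr ▸ Subgroup.mem_top _
      have hmap : x ∈ (N' ⊔ D).map L.subtype := ⟨⟨x, hx⟩, hx', rfl⟩
      rw [Subgroup.map_sup] at hmap
      refine (sup_le le_sup_right ?_ : _ ≤ C ⊔ N'.map L.subtype) hmap
      rintro _ ⟨y, hy, rfl⟩
      exact Subgroup.mem_sup_left hy
    rw [Subgroup.eq_top_iff']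
    rintro ⟨x, hx⟩
    rw [← hsub] at hx
    obtain ⟨y, hy, e⟩ := hx
    have : y = (⟨x, e ▸ y.2⟩ : L) := Subtype.ext e
    exact this ▸ hy
  haveI : T'.Normal := Subgroup.normalizer_eq_top_iff.1 hnorm
  have hTle : T' ≤ D := Subgroup.map_subtype_le _
  have hidx : ¬ r ∣ T'.index := by
    rw [← Subgroup.relIndex_mul_index hTle]
    intro h
    rcases hr.dvd_mul.1 h with h | h
    · refine T.not_dvd_index ?_
      have e : T'.relIndex D = (T : Subgroup D).index := by
        rw [hT', Subgroup.relIndex, ← Subgroup.comap_subtype,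
          Subgroup.comap_map_eq_self_of_injective D.subtype_injective]
      exact e ▸ h
    · exact hrD h
  have hTp : IsPGroup r T' := T.2.map _
  obtain ⟨n, hn⟩ := IsPGroup.iff_card.1 hTp
  have hcop : Nat.Coprime (Nat.card T') T'.index := by
    rw [hn]
    exact ((Nat.Prime.coprime_iff_not_dvd hr).2 hidx).pow_left n
  obtain ⟨K, hK⟩ := Subgroup.exists_right_complement'_of_coprime hcop
  have hKtop : K.map L.subtype = L := by
    refine hmin _ (Subgroup.map_subtype_le _) (top_unique ?_)
    rw [← hL]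
    refine sup_le le_sup_left fun x hx => ?_
    have hx' : x ∈ (T' ⊔ K).map L.subtype :=
      ⟨⟨x, hx⟩, hK.sup_eq_top ▸ Subgroup.mem_top _, rfl⟩
    rw [Subgroup.map_sup] at hx'
    refine (sup_le ?_ le_sup_right : _ ≤ C ⊔ K.map L.subtype) hx'
    rintro _ ⟨y, hy, rfl⟩
    exact Subgroup.mem_sup_left (hTle hy)
  have hcard : Nat.card K = Nat.card L := by
    conv_rhs => rw [← hKtop, Subgroup.card_map_of_injective L.subtype_injective]
  have hT1 : Nat.card T' = 1 := by
    have := hK.card_mul_card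
    rw [hcard] at this
    exact Nat.eq_of_mul_eq_mul_right Nat.card_pos (this.trans (one_mul _).symm)
  apply hidx
  rw [← Subgroup.card_mul_index T', hT1, one_mul] at hd
  exact hd

/-- A Sylow subgroup lies in a π-supplement of a normal subgroup with π-quotient. -/
theorem exists_cover {π : Set ℕ} {p : ℕ} [Fact p.Prime] (hp : p ∈ π) (C : Subgroup G) [C.Normal]
    (hq : ∀ r : ℕ, r.Prime → r ∣ C.index → r ∈ π) (Q : Sylow p G) :
    ∃ L : Subgroup G, Cfsg.IsPiSubgroup π L ∧ (Q : Subgroup G) ≤ L ∧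
      ∀ n : G, ∃ c ∈ C, ∃ l ∈ L, n = c * l := by
  classical
  let R0 : Sylow p C := default
  set R : Subgroup G := (R0 : Subgroup C).map C.subtype with hR
  set N1 := Subgroup.normalizer (R : Set G) with hN1
  have hN1top : C ⊔ N1 = ⊤ := by
    rw [sup_comm]; exact Sylow.normalizer_sup_eq_top R0
  obtain ⟨L0, ⟨hL0, hL0N⟩, hmin⟩ : ∃ L0 : Subgroup G, (C ⊔ L0 = ⊤ ∧ L0 ≤ N1) ∧
      ∀ K ≤ L0, (C ⊔ K = ⊤ ∧ K ≤ N1) → K = L0 := by
    obtain ⟨L0, hL0⟩ := Set.Finite.exists_minimal (s := {K : Subgroup G | C ⊔ K = ⊤ ∧ K ≤ N1})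
      (Set.toFinite _) ⟨N1, hN1top, le_rfl⟩
    exact ⟨L0, hL0.prop, fun K hK hP => le_antisymm hK (hL0.2 hP hK)⟩
  have hL0π := piSub_of_minimal C hq hL0 fun K hK hc => hmin K hK ⟨hc, hK.trans hL0N⟩
  have hRp : IsPGroup p R := R0.2.map _
  set L1 := L0 ⊔ R
  have hL1π : Cfsg.IsPiSubgroup π L1 :=
    piSub_sup_of_normal hL0N hL0π (piSub_of_isPGroup Fact.out hp hRp)
  have hL1top : C ⊔ L1 = ⊤ := top_unique (hL0 ▸ sup_le_sup_left le_sup_left C)
  -- a Sylow subgroup of `L1` is one of `G`
  let T0 : Sylow p L1 := default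
  set T : Subgroup G := (T0 : Subgroup L1).map L1.subtype
  have hpart : (Nat.card G).factorization p ≤ (Nat.card L1).factorization p := by
    have hRC : R ≤ (C.subgroupOf L1).map L1.subtype := by
      intro x hx
      have hxC : x ∈ C := Subgroup.map_subtype_le _ hx
      exact ⟨⟨x, Subgroup.mem_sup_right hx⟩, hxC, rfl⟩
    have h1 : Nat.card R ∣ Nat.card (C.subgroupOf L1) := by
      have := Subgroup.card_dvd_of_le hRC
      rwa [Subgroup.card_map_of_injective L1.subtype_injective] at this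
    have h2 : (C.subgroupOf L1).index = C.index := by
      show C.relIndex L1 = C.index
      have := Subgroup.relIndex_sup_left (K := C) (H := L1)
      rw [hL1top, Subgroup.relIndex_top_right] at this
      exact this.symm
    have h3 : Nat.card R * C.index ∣ Nat.card L1 := by
      rw [← Subgroup.card_mul_index (C.subgroupOf L1), h2]
      exact mul_dvd_mul_right h1 _
    have h4 : (Nat.card R).factorization p = (Nat.card C).factorization p := by
      rw [hR, Subgroup.card_map_of_injective C.subtype_injective, R0.card_eq_multiplicity,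
        Nat.Prime.factorization_pow Fact.out]
      simp
    have h5 := (Nat.factorization_le_iff_dvd (mul_ne_zero Nat.card_pos.ne' Subgroup.index_ne_zero_of_finite)
      Nat.card_pos.ne').2 h3 p
    rw [Nat.factorization_mul Nat.card_pos.ne' Subgroup.index_ne_zero_of_finite] at h5
    rw [← Subgroup.card_mul_index C, Nat.factorization_mul Nat.card_pos.ne' Subgroup.index_ne_zero_of_finite]
    simp only [Finsupp.coe_add, Pi.add_apply] at h5 ⊢
    omega
  have hTcard : Nat.card T = p ^ (Nat.card G).factorization p := by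
    rw [Subgroup.card_map_of_injective L1.subtype_injective, T0.card_eq_multiplicity]
    congr 1
    refine le_antisymm ?_ hpart
    exact (Nat.factorization_le_iff_dvd Nat.card_pos.ne' Nat.card_pos.ne').2
      (Subgroup.card_subgroup_dvd_card L1) p
  obtain ⟨a, ha⟩ := MulAction.exists_smul_eq G (Sylow.ofCard T hTcard) Q
  refine ⟨L1.map (MulAut.conj a).toMonoidHom, piSub_map _ hL1π, ?_, ?_⟩
  · intro x hx
    rw [← ha] at hx
    change x ∈ MulAut.conj a • (T : Subgroup G) at hx
    rw [Subgroup.pointwise_smul_def] at hx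
    exact Subgroup.map_mono (Subgroup.map_subtype_le _) hx
  · intro n
    have h1 : n ∈ (C ⊔ L1).map (MulAut.conj a).toMonoidHom := by
      rw [hL1top, Subgroup.map_top_of_surjective _ (MulAut.conj a).surjective]
      exact Subgroup.mem_top _
    rw [Subgroup.map_sup] at h1
    have h2 : C.map (MulAut.conj a).toMonoidHom = C := Subgroup.Normal.map_conj_eq C a
    rw [h2, Subgroup.mem_sup_of_normal_left] at h1
    obtain ⟨c, hc, l, hl, e⟩ := h1
    exact ⟨c, hc, l, hl, e.symm⟩

end Cfsg.Agent.H83.PiControl
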