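import Cfsg.Agent.H83.PiControl.Control
import Cfsg.Agent.S0877

/-!
# A π-homogeneous group with dominating π-subgroup is π'-closed
-/

set_option autoImplicit false

namespace Cfsg.Agent.H83.PiControl

universe u

theorem Good.inherit {π : Set ℕ} {G : Type u} [Group G] [Finite G] {H : Subgroup G} (S : Good π H)
    (x : G) (hx : Cfsg.IsPiSubgroup π (Subgroup.zpowers x)) (hxH : x ∈ H)
    (hctl : ∀ g : G, g * x * g⁻¹ ∈ H → ∃ h ∈ H, g * x * g⁻¹ = h * x * h⁻¹) :
    Good π (H.subgroupOf (Subgroup.centralizer ({x} : Set G))) := by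
  set M := Subgroup.centralizer ({x} : Set G)
  refine ⟨?_, fun B hB => ?_, fun B hB r hr hd => ?_⟩
  · intro r hr hd
    exact S.pi r hr (hd.trans (by
      have e : Nat.card (H.subgroupOf M) = Nat.card ((H.subgroupOf M).map M.subtype) :=
        (Subgroup.card_map_of_injective M.subtype_injective).symm
      rw [e, Subgroup.subgroupOf_map_subtype]
      exact Subgroup.card_dvd_of_le inf_le_left))
  · set B' := B.map M.subtype with hB'
    have hcomm : B' ≤ Subgroup.normalizer ((Subgroup.zpowers x : Subgroup G) : Set G) := by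
      rintro _ ⟨b, -, rfl⟩
      refine Subgroup.centralizer_le_normalizer _ ?_
      rw [Subgroup.zpowers_eq_closure, Subgroup.centralizer_closure]
      exact b.2
    obtain ⟨m, hm⟩ := S.sub (B' ⊔ Subgroup.zpowers x)
      (piSub_sup_of_normal hcomm (piSub_map _ hB) hx)
    obtain ⟨h, hh, he⟩ := hctl m (hm x (Subgroup.mem_sup_right (Subgroup.mem_zpowers x)))
    have hmem : h⁻¹ * m ∈ M := by
      rw [Subgroup.mem_centralizer_singleton_iff]
      calc h⁻¹ * m * x = h⁻¹ * (m * x * m⁻¹) * m := by group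
        _ = _ := by rw [he]; group
    refine ⟨⟨_, hmem⟩, fun b hb => ?_⟩
    show h⁻¹ * m * (b : G) * (h⁻¹ * m)⁻¹ ∈ H
    have := H.mul_mem (H.mul_mem (H.inv_mem hh)
      (hm b (Subgroup.mem_sup_left ⟨b, hb, rfl⟩))) hh
    simpa [mul_assoc] using this
  · by_contra hrπ
    haveI := Fact.mk hr
    set N := Subgroup.normalizer (B : Set M)
    set B' := B.map M.subtype with hB'
    set C := (Subgroup.centralizer (B : Set M)).subgroupOf N with hC
    haveI : C.Normal := by
      show ((Subgroup.centralizer (B : Set M)).subgroupOf (Subgroup.normalizer (B : Set M))).Normal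
      rw [← Subgroup.normalizerMonoidHom_ker]; infer_instance
    set C' := (Subgroup.centralizer (B' : Set G)).subgroupOf (Subgroup.normalizer (B' : Set G))
    haveI : C'.Normal := by
      show ((Subgroup.centralizer (B' : Set G)).subgroupOf (Subgroup.normalizer (B' : Set G))).Normal
      rw [← Subgroup.normalizerMonoidHom_ker]; infer_instance
    have hd' : r ∣ Nat.card (N ⧸ C) := hd
    obtain ⟨q, hq⟩ := exists_prime_orderOf_dvd_card' r hd'
    obtain ⟨n, rfl⟩ := QuotientGroup.mk'_surjective C q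
    have hn : ((n : M) : G) ∈ Subgroup.normalizer (B' : Set G) := by
      refine Subgroup.mem_normalizer_fintype fun b hb => ?_
      obtain ⟨b, hb', rfl⟩ := hb
      exact ⟨(n : M) * b * (n : M)⁻¹, (Subgroup.mem_normalizer_iff.1 n.2 b).1 hb', rfl⟩
    have hk : (⟨((n : M) : G), hn⟩ : Subgroup.normalizer (B' : Set G)) ^ C'.index ∈ C' :=
      C'.pow_index_mem _
    have hk' : (n : N) ^ C'.index ∈ C := by
      rw [hC, Subgroup.mem_subgroupOf, Subgroup.mem_centralizer_iff]
      intro b hb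
      have := Subgroup.mem_centralizer_iff.1 (Subgroup.mem_subgroupOf.1 hk) b ⟨b, hb, rfl⟩
      exact Subtype.ext this
    have h1 : orderOf (QuotientGroup.mk' C n) ∣ C'.index := by
      rw [orderOf_dvd_iff_pow_eq_one, ← map_pow]
      exact (QuotientGroup.eq_one_iff _).2 hk'
    rw [hq] at h1
    exact hrπ (S.homog B' (piSub_map _ hB) r hr h1)

/-- `H` controls the fusion of its elements. -/
theorem fusion {π : Set ℕ} : ∀ {G : Type u} [Group G] [Finite G] {H : Subgroup G}, Good π H →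
    ∀ x ∈ H, ∀ g : G, g * x * g⁻¹ ∈ H → ∃ h ∈ H, g * x * g⁻¹ = h * x * h⁻¹ := by
  intro G
  induction hG : Nat.card G using Nat.strong_induction_on generalizing G with
  | _ n IHG =>
  intro _ _ H S x
  induction hx : orderOf x using Nat.strong_induction_on generalizing x with
  | _ m IHx =>
  intro hxH g hgx
  by_cases hx1 : x = 1
  · exact ⟨1, H.one_mem, by simp [hx1]⟩
  obtain ⟨p, hp, hpd⟩ := Nat.exists_prime_and_dvd (fun h => hx1 (orderOf_eq_one_iff.1 h))
  haveI := Fact.mk hp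
  set o := orderOf x with ho
  have ho0 : o ≠ 0 := (orderOf_pos x).ne'
  have hpπ : p ∈ π := S.pi p hp (hpd.trans (Subgroup.orderOf_dvd_natCard H hxH))
  set e := p ^ o.factorization p with he
  set d := o / e with hdd
  have hed : e * d = o := Nat.ordProj_mul_ordCompl_eq_self o p
  have hcop : Nat.Coprime e d := (Nat.coprime_ordCompl hp ho0).pow_left _
  have hxd : x ^ d ∈ H := H.pow_mem hxH d
  -- the p-part moved into a Sylow subgroup inside H
  obtain ⟨g1, hg1⟩ := S.sub ((default : Sylow p G) : Subgroup G)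
    (piSub_of_isPGroup hp hpπ (default : Sylow p G).2)
  have hPH : ((g1 • (default : Sylow p G) : Sylow p G) : Subgroup G) ≤ H := by
    rintro y ⟨z, hz, rfl⟩
    exact hg1 z hz
  have hzp : IsPGroup p (Subgroup.zpowers (x ^ d)) := by
    refine IsPGroup.of_card (n := o.factorization p) ?_
    rw [Nat.card_zpowers, orderOf_pow' _ (fun h => ho0 (by rw [← hed, h, mul_zero])), ← ho,
      Nat.gcd_eq_right (Dvd.intro_left e hed), Nat.div_eq_of_eq_mul_left
        (Nat.pos_of_ne_zero fun h => ho0 (by rw [← hed, h, mul_zero])) hed.symm]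
  obtain ⟨h1, h1H, hh1⟩ := exists_mem_conj_le hPH hzp (by rw [Subgroup.zpowers_le]; exact hxd)
  set u0 := h1 * x ^ d * h1⁻¹ with hu0
  have hgd : g * x ^ d * g⁻¹ ∈ H := by rw [← conj_pow]; exact H.pow_mem hgx d
  obtain ⟨h, hH, hh⟩ := ind_of_le S hpπ hPH (Subgroup.zpowers u0)
    (by rw [Subgroup.zpowers_le]; exact hh1 _ (Subgroup.mem_zpowers _)) (g * h1⁻¹) (by
      rintro u ⟨i, rfl⟩
      show g * h1⁻¹ * u0 ^ i * (g * h1⁻¹)⁻¹ ∈ H
      rw [← conj_zpow]
      refine H.zpow_mem ?_ i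
      convert hgd using 1
      rw [hu0]; group)
  have hh0 : g * x ^ d * g⁻¹ = h * h1 * x ^ d * (h * h1)⁻¹ := by
    have := hh u0 (Subgroup.mem_zpowers u0)
    rw [hu0] at this
    calc g * x ^ d * g⁻¹ = g * h1⁻¹ * (h1 * x ^ d * h1⁻¹) * (g * h1⁻¹)⁻¹ := by group
      _ = _ := by rw [this]; group
  have h2H : h * h1 ∈ H := H.mul_mem hH h1H
  generalize h * h1 = h2 at hh0 h2H
  set k := h2⁻¹ * g with hk
  set M := Subgroup.centralizer ({x ^ d} : Set G) with hMdef
  have hkM : k ∈ M := by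
    rw [hMdef, Subgroup.mem_centralizer_singleton_iff]
    calc k * x ^ d = h2⁻¹ * (g * x ^ d * g⁻¹) * g := by rw [hk]; group
      _ = _ := by rw [hh0, hk]; group
  have hy1 : k * x * k⁻¹ ∈ H := by
    have := H.mul_mem (H.mul_mem (H.inv_mem h2H) hgx) h2H
    simpa [hk, mul_assoc] using this
  suffices ∃ h3 ∈ H, k * x * k⁻¹ = h3 * x * h3⁻¹ by
    obtain ⟨h3, h3H, h33⟩ := this
    refine ⟨h2 * h3, H.mul_mem h2H h3H, ?_⟩
    calc g * x * g⁻¹ = h2 * (k * x * k⁻¹) * h2⁻¹ := by rw [hk]; group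
      _ = _ := by rw [h33]; group
  have hd0 : 0 < d := Nat.pos_of_ne_zero fun h => ho0 (by rw [← hed, h, mul_zero])
  by_cases hM : M = ⊤
  · have hlt : orderOf (x ^ e) < o := by
      rw [orderOf_pow' _ (pow_ne_zero _ hp.ne_zero), ← ho, Nat.gcd_eq_right (Dvd.intro d hed)]
      exact Nat.div_lt_self (orderOf_pos x) (Nat.one_lt_pow (hp.factorization_pos_of_dvd ho0 hpd).ne' hp.one_lt)
    obtain ⟨h3, h3H, h33⟩ := IHx _ (by omega) (x ^ e) rfl (H.pow_mem hxH e) k
      (by rw [← conj_pow]; exact H.pow_mem hy1 e)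
    refine ⟨h3, h3H, ?_⟩
    have hc : ∀ a : G, a * x ^ d * a⁻¹ = x ^ d := fun a => by
      have : a ∈ M := hM ▸ Subgroup.mem_top a
      rw [hMdef, Subgroup.mem_centralizer_singleton_iff] at this
      rw [this, mul_inv_cancel_right]
    have hbez : x = (x ^ e) ^ (Nat.gcdA e d) * (x ^ d) ^ (Nat.gcdB e d) := by
      rw [← zpow_natCast, ← zpow_natCast x d, ← zpow_mul, ← zpow_mul, ← zpow_add,
        ← Nat.gcd_eq_gcd_ab, hcop, Nat.cast_one, zpow_one]
    have hcv : ∀ a : G, a * x * a⁻¹ =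
        (a * x ^ e * a⁻¹) ^ (Nat.gcdA e d) * (a * x ^ d * a⁻¹) ^ (Nat.gcdB e d) := fun a => by
      rw [conj_zpow, conj_zpow]
      conv_lhs => rw [hbez]
      group
    rw [hcv k, hcv h3, h33, hc, hc]
  · have hlt : Nat.card M < n := by
      rw [← hG]
      exact lt_of_le_of_ne (Subgroup.card_le_card_group M) fun h => hM (Subgroup.eq_top_of_card_eq M h)
    have hctl : ∀ a : G, a * x ^ d * a⁻¹ ∈ H → ∃ b ∈ H, a * x ^ d * a⁻¹ = b * x ^ d * b⁻¹ := by
      intro a ha
      obtain ⟨b, hb, hbb⟩ := ind_of_le S hpπ hPH (Subgroup.zpowers u0)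
        (by rw [Subgroup.zpowers_le]; exact hh1 _ (Subgroup.mem_zpowers _)) (a * h1⁻¹) (by
          rintro u ⟨i, rfl⟩
          show a * h1⁻¹ * u0 ^ i * (a * h1⁻¹)⁻¹ ∈ H
          rw [← conj_zpow]
          refine H.zpow_mem ?_ i
          convert ha using 1
          rw [hu0]; group)
      refine ⟨b * h1, H.mul_mem hb h1H, ?_⟩
      have := hbb u0 (Subgroup.mem_zpowers u0)
      rw [hu0] at this
      calc a * x ^ d * a⁻¹ = a * h1⁻¹ * (h1 * x ^ d * h1⁻¹) * (a * h1⁻¹)⁻¹ := by group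
        _ = _ := by rw [this]; group
    have hxM : x ∈ M := by
      rw [hMdef, Subgroup.mem_centralizer_singleton_iff]
      exact ((Commute.refl x).pow_right d).eq
    obtain ⟨h3, h3H, h33⟩ := IHG _ hlt (G := M) rfl
      (Good.inherit S (x ^ d) (piSub_of_isPGroup hp hpπ hzp) hxd hctl) ⟨x, hxM⟩ hxH ⟨k, hkM⟩ hy1
    exact ⟨h3, h3H, congrArg Subtype.val h33⟩

/-- The normal π-complement. -/
theorem exists_closed {π : Set ℕ} {G : Type u} [Group G] [Finite G] {H : Subgroup G} (S : Good π H) :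
    ∃ K : Subgroup G, ∀ x : G, x ∈ K ↔ ∀ p : ℕ, p.Prime → p ∣ orderOf x → p ∉ π := by
  have hidx : ∀ p : ℕ, p.Prime → p ∈ π → ¬ p ∣ H.index := by
    intro p hp hpπ hd
    haveI := Fact.mk hp
    let P : Sylow p G := default
    obtain ⟨g, hg⟩ := S.sub P (piSub_of_isPGroup hp hpπ P.2)
    have hle : ((g • P : Sylow p G) : Subgroup G) ≤ H := by
      rintro y ⟨z, hz, rfl⟩; exact hg z hz
    exact (g • P).not_dvd_index (hd.trans (Subgroup.index_dvd_of_le hle))
  have hhall : Nat.Coprime (Nat.card H) H.index := by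
    refine Nat.coprime_of_dvd fun r hr h1 h2 => hidx r hr (S.pi r hr h1) h2
  obtain ⟨K, hKn, hsup, hinf⟩ := Cfsg.Agent.S0877.result H hhall (fun x hx y hy hxy => by
    obtain ⟨g, rfl⟩ := isConj_iff.1 hxy
    obtain ⟨h, hh, he⟩ := fusion S x hx g hy
    exact ⟨h, hh, he.symm⟩) (fun E p _ _ hdvd => by
    obtain ⟨g, hg⟩ := S.sub E (fun r hr hd => S.pi r hr (hd.trans hdvd))
    refine ⟨g, ?_⟩
    rintro _ ⟨z, hz, rfl⟩; exact hg z hz)
  have hcomp : Subgroup.IsComplement' K H :=
    Subgroup.isComplement'_of_disjoint_and_mul_eq_univ (disjoint_iff.2 hinf)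
      (by rw [← Subgroup.normal_mul K H, hsup, Subgroup.coe_top])
  have hKi : K.index = Nat.card H := hcomp.symm.index_eq_card
  have hKc : Nat.card K = H.index := hcomp.index_eq_card.symm
  refine ⟨K, fun x => ⟨fun hx p hp hd hpπ => ?_, fun hx => ?_⟩⟩
  · exact hidx p hp hpπ (hKc ▸ hd.trans (Subgroup.orderOf_dvd_natCard K hx))
  · haveI := hKn
    have h1 : x ^ K.index ∈ K := K.pow_index_mem x
    have hco : Nat.Coprime K.index (orderOf x) := by
      rw [hKi]
      exact Nat.coprime_of_dvd fun r hr h2 h3 => hx r hr h3 (S.pi r hr h2)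
    obtain ⟨m, hm⟩ := exists_pow_eq_self_of_coprime hco
    rw [← hm]
    exact K.pow_mem h1 m

/-- `D_π` gives the dominating π-subgroup. -/
theorem exists_good {π : Set ℕ} {G : Type u} [Group G] [Finite G] (hD : Cfsg.IsDPiGroup π G)
    (hhom : ∀ B : Subgroup G, B ≠ ⊥ → Cfsg.IsPiSubgroup π B → ∀ r : ℕ, r.Prime →
      r ∣ (Subgroup.centralizer (B : Set G)).relIndex (Subgroup.normalizer (B : Set G)) → r ∈ π) :
    ∃ H : Subgroup G, Good π H := by
  have hbot : Cfsg.IsPiSubgroup π (⊥ : Subgroup G) := fun r hr hd => by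
    rw [Subgroup.card_bot] at hd; exact absurd hd hr.not_dvd_one
  have hex : ∀ B : Subgroup G, Cfsg.IsPiSubgroup π B →
      ∃ M, B ≤ M ∧ Maximal (Cfsg.IsPiSubgroup π) M := fun B hB =>
    Set.Finite.exists_le_maximal (s := {K : Subgroup G | Cfsg.IsPiSubgroup π K}) (Set.toFinite _) hB
  obtain ⟨H, -, hH⟩ := hex ⊥ hbot
  refine ⟨H, ⟨hH.prop, fun B hB => ?_, fun B hB r hr hd => ?_⟩⟩
  · obtain ⟨M, hBM, hM⟩ := hex B hB
    obtain ⟨g, hg⟩ := hD M H hM hH
    exact ⟨g, fun b hb => hg ▸ ⟨b, hBM hb, rfl⟩⟩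
  · by_cases hB0 : B = ⊥
    · subst hB0
      have : Subgroup.centralizer ((⊥ : Subgroup G) : Set G) = ⊤ := by
        rw [Subgroup.eq_top_iff']
        intro a
        rw [Subgroup.mem_centralizer_iff]
        intro b hb
        rw [Subgroup.mem_bot.1 hb, one_mul, mul_one]
      rw [this, Subgroup.relIndex_top_left] at hd
      exact absurd hd hr.not_dvd_one
    · exact hhom B hB0 hB r hr hd

end Cfsg.Agent.H83.PiControl
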